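import Mathlib
import Cfsg.Agent.GTwoFour.TransferTL

/-!
# ODD half, D8: the equivariant family of a standard subgroup (helper681)

`Fam t K X a`: `t` is an involution, `K ≤ C(t)`, `X ⊆ K` a `K`-invariant set of involutions and `a v` (`v ∈ X`)
involutions with `t ^ (a v) = t v`, `(a v) ^ k = a (v ^ k)` for `k ∈ K`. Put `b v = a v * v = (a v) ^ t`.
`Good v w` : `a v` commutes with `b w`.

* `Fam.r1`, `Fam.r2` : closure rules for `Good`;
* `Fam.dich` : if `x = [v, w]` has order 2 and `a` is multiplicative on `⟨v, x⟩`, `⟨w, x⟩`, then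
  `[a v, b w] = k` with `k ∈ K`, `k² = 1`, `k` central in `C_K(⟨v, w⟩)`;
* `Fam.dich'` : the same for commuting `v`, `w`;
* `Fam.wreath` : if all pairs are good, then `G` has a subgroup of index 2.
-/

set_option autoImplicit false
set_option linter.dupNamespace false

namespace Cfsg.Agent.OddHalf.Fam

open Subgroup

variable {G : Type*} [Group G]

/-- the equivariant family -/
structure Fam (t : G) (K : Subgroup G) (X : Set G) (a : G → G) : Prop where
  tt : t * t = 1
  Kt : ∀ k ∈ K, k * t = t * k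
  tK : t ∉ K
  XK : ∀ v ∈ X, v ∈ K
  X2 : ∀ v ∈ X, v * v = 1
  X1 : ∀ v ∈ X, v ≠ 1
  Xc : ∀ k ∈ K, ∀ v ∈ X, k * v * k⁻¹ ∈ X
  aa : ∀ v ∈ X, a v * a v = 1
  ta : ∀ v ∈ X, a v * t * a v = t * v
  eqv : ∀ k ∈ K, ∀ v ∈ X, k * a v * k⁻¹ = a (k * v * k⁻¹)

/-- `a v` commutes with `b w = a w * w` -/
def Good (a : G → G) (v w : G) : Prop := a v * (a w * w) = a w * w * a v

namespace Fam

variable {t : G} {K : Subgroup G} {X : Set G} {a : G → G}

theorem inv (F : Fam t K X a) {v : G} (hv : v ∈ X) : v⁻¹ = v := inv_eq_of_mul_eq_one_left (F.X2 v hv)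

theorem ainv (F : Fam t K X a) {v : G} (hv : v ∈ X) : (a v)⁻¹ = a v :=
  inv_eq_of_mul_eq_one_left (F.aa v hv)

theorem tinv (F : Fam t K X a) : t⁻¹ = t := inv_eq_of_mul_eq_one_left F.tt

/-- `a v` centralises `C_K(v)` -/
theorem comm (F : Fam t K X a) {k v : G} (hk : k ∈ K) (hv : v ∈ X) (h : k * v = v * k) :
    k * a v = a v * k := by
  have h1 := F.eqv k hk v hv
  have h2 : k * v * k⁻¹ = v := by rw [h]; group
  rw [h2] at h1
  rwa [mul_inv_eq_iff_eq_mul] at h1

theorem vt (F : Fam t K X a) {v : G} (hv : v ∈ X) : v * t = t * v := F.Kt v (F.XK v hv)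

theorem va (F : Fam t K X a) {v : G} (hv : v ∈ X) : v * a v = a v * v := F.comm (F.XK v hv) hv rfl

/-- `b v = t (a v) t` -/
theorem b_eq (F : Fam t K X a) {v : G} (hv : v ∈ X) : a v * v = t * a v * t := by
  have h1 := F.ta v hv
  have h2 := F.aa v hv
  have h3 : t * a v * t = v * a v := by
    calc t * a v * t = (a v * a v) * t * a v * t := by rw [h2, one_mul]
      _ = a v * (a v * t * a v) * t := by group
      _ = a v * (t * v) * t := by rw [h1]
      _ = a v * t * (v * t) := by group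
      _ = a v * t * (t * v) := by rw [F.vt hv]
      _ = a v * (t * t) * v := by group
      _ = a v * v := by rw [F.tt]; group
      _ = v * a v := (F.va hv).symm
  rw [h3, F.va hv]

theorem bb (F : Fam t K X a) {v : G} (hv : v ∈ X) : a v * v * (a v * v) = 1 := by
  calc a v * v * (a v * v) = a v * (v * a v) * v := by group
    _ = a v * (a v * v) * v := by rw [F.va hv]
    _ = (a v * a v) * (v * v) := by group
    _ = 1 := by rw [F.aa v hv, F.X2 v hv, mul_one]

/-- conjugation by `t` exchanges `a v` and `b v` -/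
theorem t_a (F : Fam t K X a) {v : G} (hv : v ∈ X) : t * a v * t⁻¹ = a v * v := by
  rw [F.tinv, F.b_eq hv]

theorem t_b (F : Fam t K X a) {v : G} (hv : v ∈ X) : t * (a v * v) * t⁻¹ = a v := by
  rw [F.b_eq hv, F.tinv]
  calc t * (t * a v * t) * t = (t * t) * a v * (t * t) := by group
    _ = a v := by rw [F.tt]; group

/-- `v = a v * b v` -/
theorem a_b (F : Fam t K X a) {v : G} (hv : v ∈ X) : a v * (a v * v) = v := by
  rw [← mul_assoc, F.aa v hv, one_mul]

theorem eqv_b (F : Fam t K X a) {k v : G} (hk : k ∈ K) (hv : v ∈ X) :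
    k * (a v * v) * k⁻¹ = a (k * v * k⁻¹) * (k * v * k⁻¹) := by
  rw [← F.eqv k hk v hv]; group

theorem good_symm (F : Fam t K X a) {v w : G} (hv : v ∈ X) (hw : w ∈ X) (h : Good a v w) :
    Good a w v := by
  unfold Good at h ⊢
  have h1 : t * (a v * (a w * w)) * t⁻¹ = t * (a w * w * a v) * t⁻¹ := by rw [h]
  have h2 : t * (a v * (a w * w)) * t⁻¹ = (t * a v * t⁻¹) * (t * (a w * w) * t⁻¹) := by group
  have h3 : t * (a w * w * a v) * t⁻¹ = (t * (a w * w) * t⁻¹) * (t * a v * t⁻¹) := by group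
  rw [h2, h3, F.t_a hv, F.t_b hw] at h1
  exact h1.symm

theorem good_conj (F : Fam t K X a) {k v w : G} (hk : k ∈ K) (hv : v ∈ X) (hw : w ∈ X)
    (h : Good a v w) : Good a (k * v * k⁻¹) (k * w * k⁻¹) := by
  unfold Good at h ⊢
  rw [← F.eqv_b hk hw, ← F.eqv k hk v hv]
  calc k * a v * k⁻¹ * (k * (a w * w) * k⁻¹) = k * (a v * (a w * w)) * k⁻¹ := by group
    _ = k * (a w * w * a v) * k⁻¹ := by rw [h]
    _ = k * (a w * w) * k⁻¹ * (k * a v * k⁻¹) := by group

/-- commuting pairs on which `a` is multiplicative are good -/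
theorem good_of_add (F : Fam t K X a) {v w : G} (hv : v ∈ X) (hw : w ∈ X) (hvw : v * w = w * v)
    (h : a v * a w = a w * a v) : Good a v w := by
  unfold Good
  have h1 : w * a v = a v * w := F.comm (F.XK w hw) hv hvw.symm
  calc a v * (a w * w) = (a v * a w) * w := by group
    _ = a w * (a v * w) := by rw [h]; group
    _ = a w * w * a v := by rw [← h1]; group

/-- **(R1)** -/
theorem r1 (F : Fam t K X a) {v w₁ w₂ : G} (h₁ : w₁ ∈ X) (h₂ : w₂ ∈ X)
    (h12 : w₁ * w₂ = w₂ * w₁) (ha : a (w₁ * w₂) = a w₁ * a w₂) (g₁ : Good a v w₁) (g₂ : Good a v w₂) :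
    Good a v (w₁ * w₂) := by
  unfold Good at g₁ g₂ ⊢
  have h3 : w₁ * a w₂ = a w₂ * w₁ := F.comm (F.XK _ h₁) h₂ h12
  have h4 : a (w₁ * w₂) * (w₁ * w₂) = a w₁ * w₁ * (a w₂ * w₂) := by
    rw [ha]
    calc a w₁ * a w₂ * (w₁ * w₂) = a w₁ * (a w₂ * w₁) * w₂ := by group
      _ = a w₁ * (w₁ * a w₂) * w₂ := by rw [h3]
      _ = _ := by group
  rw [h4]
  calc a v * (a w₁ * w₁ * (a w₂ * w₂)) = (a v * (a w₁ * w₁)) * (a w₂ * w₂) := by group
    _ = a w₁ * w₁ * (a v * (a w₂ * w₂)) := by rw [g₁]; group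
    _ = a w₁ * w₁ * (a w₂ * w₂) * a v := by rw [g₂]; group

/-- **(R2)** -/
theorem r2 (F : Fam t K X a) {v w₁ w₂ : G} (h₁ : w₁ ∈ X) (h₂ : w₂ ∈ X)
    (g₁ : Good a v w₁) (g₂ : Good a v w₂) (g : Good a w₁ w₂) :
    Good a v (w₁ * w₂ * w₁⁻¹) := by
  unfold Good at g₁ g₂ g ⊢
  rw [← F.eqv_b (F.XK _ h₁) h₂]
  set b₁ := a w₁ * w₁ with hb₁
  set b₂ := a w₂ * w₂ with hb₂
  have h3 : w₁ * b₂ * w₁⁻¹ = b₁ * b₂ * b₁⁻¹ := by
    have e : w₁ = a w₁ * b₁ := (F.a_b h₁).symm
    have e2 : w₁ = b₁ * a w₁ := by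
      rw [hb₁, mul_assoc, F.va h₁, ← mul_assoc, F.aa _ h₁, one_mul]
    calc w₁ * b₂ * w₁⁻¹ = b₁ * a w₁ * b₂ * (b₁ * a w₁)⁻¹ := by rw [← e2]
      _ = b₁ * (a w₁ * b₂) * (a w₁)⁻¹ * b₁⁻¹ := by group
      _ = b₁ * (b₂ * a w₁) * (a w₁)⁻¹ * b₁⁻¹ := by rw [g]
      _ = b₁ * b₂ * b₁⁻¹ := by group
  rw [h3]
  have g₁' : a v * b₁⁻¹ = b₁⁻¹ * a v := by
    calc a v * b₁⁻¹ = b₁⁻¹ * (b₁ * a v) * b₁⁻¹ := by group
      _ = b₁⁻¹ * (a v * b₁) * b₁⁻¹ := by rw [g₁]
      _ = b₁⁻¹ * a v := by group
  calc a v * (b₁ * b₂ * b₁⁻¹) = (a v * b₁) * b₂ * b₁⁻¹ := by group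
    _ = b₁ * (a v * b₂) * b₁⁻¹ := by rw [g₁]; group
    _ = b₁ * b₂ * (a v * b₁⁻¹) := by rw [g₂]; group
    _ = b₁ * b₂ * b₁⁻¹ * a v := by rw [g₁']; group

/-- **the trick**: `K ∩ K ^ (a w) ≤ C_K(w)` -/
theorem trick (F : Fam t K X a) {k w : G} (hw : w ∈ X) (hk : k ∈ K)
    (h : a w * k * a w * t = t * (a w * k * a w)) : k * w = w * k := by
  have haa := F.aa w hw
  have hta := F.ta w hw
  have hkt := F.Kt k hk
  -- conjugating by `a w`: `k` commutes with `t ^ (a w) = t w`
  have h1 : k * (t * w) = t * w * k := by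
    calc k * (t * w) = k * (a w * t * a w) := by rw [hta]
      _ = (a w * a w) * k * (a w * t * a w) := by rw [haa, one_mul]
      _ = a w * (a w * k * a w * t) * a w := by group
      _ = a w * (t * (a w * k * a w)) * a w := by rw [h]
      _ = (a w * t * a w) * k * (a w * a w) := by group
      _ = t * w * k := by rw [hta, haa, mul_one]
  have h2 : t * (k * w) = t * (w * k) := by
    calc t * (k * w) = t * k * w := by group
      _ = k * t * w := by rw [hkt]
      _ = k * (t * w) := by group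
      _ = t * w * k := h1
      _ = t * (w * k) := by group
  exact mul_left_cancel h2

/-- `v ^ (a w) = v * a x` if `w ^ v = w x` and `a` is multiplicative on `w`, `x` -/
theorem v_aw (F : Fam t K X a) {v w x : G} (hv : v ∈ X) (hw : w ∈ X)
    (h : v * w * v = w * x) (ha : a (w * x) = a w * a x)
    (hc : a w * a x = a x * a w) : a w * v * a w = v * a x := by
  have e1 : v * a w * v = a (w * x) := by
    have := F.eqv v (F.XK v hv) w hw
    rw [F.inv hv] at this
    rw [this, h]
  have hvv := F.X2 v hv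
  calc a w * v * a w = (v * v) * a w * v * a w := by rw [hvv, one_mul]
    _ = v * (v * a w * v) * a w := by group
    _ = v * (a w * a x) * a w := by rw [e1, ha]
    _ = v * (a x * a w) * a w := by rw [hc]
    _ = v * a x * (a w * a w) := by group
    _ = v * a x := by rw [F.aa w hw, mul_one]

/-- an element `g` of `C(t)` inverted by `a v` and `a w` and commuting with a subset `C` of `K` -/
theorem dich_core (F : Fam t K X a) (hcent : ∀ g : G, g * t = t * g → g ∈ K ∨ t * g ∈ K)
    {v w g : G} (hv : v ∈ X) (hw : w ∈ X) (hne : v ≠ w) (hg : g * t = t * g)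
    (iv : a v * g * a v = g⁻¹) (iw : a w * g * a w = g⁻¹) :
    g ∈ K ∧ g * g = 1 ∧ g * v = v * g ∧ g * w = w * g := by
  -- for `u = v, w`: write `g = t^i k`
  have key : ∀ u ∈ X, a u * g * a u = g⁻¹ → ∀ k ∈ K, (g = k → k * u = u * k ∧ k * k = 1) ∧
      (g = t * k → k * u = u * k ∧ k * k = u) := by
    intro u hu iu k hk
    have huu := F.X2 u hu
    have hauu := F.aa u hu
    have hku : k⁻¹ * u * k ∈ X := by
      have := F.Xc k⁻¹ (inv_mem hk) u hu
      rwa [inv_inv] at this
    have hkt' : k⁻¹ * t = t * k⁻¹ := F.Kt _ (inv_mem hk)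
    -- `a (u^k)` as a conjugate
    have e1 : k⁻¹ * a u * k = a (k⁻¹ * u * k) := by
      have := F.eqv k⁻¹ (inv_mem hk) u hu
      rwa [inv_inv] at this
    -- `t ^ (a (u^k)) = t u^k`
    have e2 := F.ta _ hku
    -- main computation: if `a u k a u = k⁻¹ * c` with `c` commuting with `t`, then `u^k = u`
    have main : ∀ c : G, c * t = t * c → a u * k * a u = c * k⁻¹ → k * u = u * k := by
      intro c hc h1
      -- `a (u^k) a u = k⁻¹ c k⁻¹`
      have h2 : a (k⁻¹ * u * k) * a u = k⁻¹ * c * k⁻¹ := by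
        calc a (k⁻¹ * u * k) * a u = k⁻¹ * a u * k * a u := by rw [e1]
          _ = k⁻¹ * (a u * k * a u) := by group
          _ = k⁻¹ * c * k⁻¹ := by rw [h1]; group
      set d := k⁻¹ * c * k⁻¹ with hd
      have hdt : d * t = t * d := by
        calc d * t = k⁻¹ * c * (k⁻¹ * t) := by rw [hd]; group
          _ = k⁻¹ * (c * t) * k⁻¹ := by rw [hkt']; group
          _ = (k⁻¹ * t) * c * k⁻¹ := by rw [hc]; group
          _ = t * d := by rw [hkt', hd]; group
      -- `a u * d⁻¹...`: conjugate `t`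
      have h3 : a (k⁻¹ * u * k) = d * a u := by
        calc a (k⁻¹ * u * k) = a (k⁻¹ * u * k) * (a u * a u) := by rw [hauu, mul_one]
          _ = a (k⁻¹ * u * k) * a u * a u := (mul_assoc _ _ _).symm
          _ = d * a u := by rw [h2]
      have h4 : a (k⁻¹ * u * k) * t * (a (k⁻¹ * u * k))⁻¹ = t * (k⁻¹ * u * k) := by
        rw [F.ainv hku]; exact e2
      have h5 : d * (t * u) * d⁻¹ = t * (k⁻¹ * u * k) := by
        rw [← h4, h3]
        calc d * (t * u) * d⁻¹ = d * (a u * t * a u) * d⁻¹ := by rw [F.ta u hu]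
          _ = d * a u * t * ((a u)⁻¹ * d⁻¹) := by rw [F.ainv hu]; group
          _ = d * a u * t * (d * a u)⁻¹ := by group
      have h6 : d * u * d⁻¹ = k⁻¹ * u * k := by
        have h7 : t * (d * u * d⁻¹) = t * (k⁻¹ * u * k) := by
          calc t * (d * u * d⁻¹) = t * d * u * d⁻¹ := by group
            _ = d * (t * u) * d⁻¹ := by rw [← hdt]; group
            _ = _ := h5
        exact mul_left_cancel h7
      -- `d = a(u^k) a u`; `a u` commutes with `u`, `a (u^k)` with `u^k`
      have h8 : d * u * d⁻¹ = a (k⁻¹ * u * k) * u * a (k⁻¹ * u * k) := by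
        rw [← h2]
        calc a (k⁻¹ * u * k) * a u * u * (a (k⁻¹ * u * k) * a u)⁻¹
            = a (k⁻¹ * u * k) * (a u * u) * (a u)⁻¹ * (a (k⁻¹ * u * k))⁻¹ := by group
          _ = a (k⁻¹ * u * k) * (u * a u) * (a u)⁻¹ * (a (k⁻¹ * u * k))⁻¹ := by rw [F.va hu]
          _ = a (k⁻¹ * u * k) * u * (a (k⁻¹ * u * k))⁻¹ := by group
          _ = _ := by rw [F.ainv hku]
      have h9 : u = k⁻¹ * u * k := by
        have haa' := F.aa _ hku
        have hva' := F.va hku
        have h10 : a (k⁻¹ * u * k) * u * a (k⁻¹ * u * k) = k⁻¹ * u * k := by rw [← h8, h6]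
        calc u = (a (k⁻¹ * u * k) * a (k⁻¹ * u * k)) * u * (a (k⁻¹ * u * k) * a (k⁻¹ * u * k)) := by
              rw [haa', one_mul, mul_one]
          _ = a (k⁻¹ * u * k) * (a (k⁻¹ * u * k) * u * a (k⁻¹ * u * k)) * a (k⁻¹ * u * k) := by group
          _ = a (k⁻¹ * u * k) * (k⁻¹ * u * k) * a (k⁻¹ * u * k) := by rw [h10]
          _ = (k⁻¹ * u * k * a (k⁻¹ * u * k)) * a (k⁻¹ * u * k) := by rw [hva']
          _ = k⁻¹ * u * k * (a (k⁻¹ * u * k) * a (k⁻¹ * u * k)) := by group
          _ = k⁻¹ * u * k := by rw [haa', mul_one]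
      calc k * u = k * (k⁻¹ * u * k) := by rw [← h9]
        _ = u * k := by group
    constructor
    · rintro rfl
      have h1 : a u * g * a u = 1 * g⁻¹ := by rw [one_mul]; exact iu
      have hcom := main 1 (by group) h1
      refine ⟨hcom, ?_⟩
      have h2 : g * a u = a u * g := F.comm hk hu hcom
      have h3 : g⁻¹ = g := by
        rw [← iu, ← h2, mul_assoc, hauu, mul_one]
      calc g * g = g⁻¹ * g := by rw [h3]
        _ = 1 := by group
    · intro hgk
      have hkt := F.Kt k hk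
      have huk : u ∈ K := F.XK u hu
      -- `a u t k a u = (t k)⁻¹ = t k⁻¹`, so `t u (a u k a u) = t k⁻¹`
      have h1 : a u * k * a u = u * k⁻¹ := by
        have h2 : (t * k)⁻¹ = t * k⁻¹ := by rw [mul_inv_rev, F.tinv, hkt']
        have h3 : a u * (t * k) * a u = (a u * t * a u) * (a u * k * a u) := by
          calc a u * (t * k) * a u = a u * t * 1 * k * a u := by group
            _ = a u * t * (a u * a u) * k * a u := by rw [hauu]
            _ = _ := by group
        have h4 : t * u * (a u * k * a u) = t * k⁻¹ := by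
          rw [← F.ta u hu, ← h3, ← hgk, iu, hgk, h2]
        have h5 : u * (a u * k * a u) = k⁻¹ := by
          apply mul_left_cancel (a := t)
          rw [← h4]; group
        calc a u * k * a u = (u * u) * (a u * k * a u) := by rw [huu, one_mul]
          _ = u * (u * (a u * k * a u)) := by group
          _ = u * k⁻¹ := by rw [h5]
      have hcom := main u (F.vt hu) h1
      refine ⟨hcom, ?_⟩
      have h2 : k * a u = a u * k := F.comm hk hu hcom
      have h3 : k = u * k⁻¹ := by
        rw [← h1, ← h2, mul_assoc, hauu, mul_one]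
      calc k * k = u * k⁻¹ * k := by rw [← h3]
        _ = u := by group
  rcases hcent g hg with h | h
  · obtain ⟨h1, h2⟩ := (key v hv iv g h).1 rfl
    exact ⟨h, h2, h1, ((key w hw iw g h).1 rfl).1⟩
  · exfalso
    have e : g = t * (t * g) := by rw [← mul_assoc, F.tt, one_mul]
    obtain ⟨-, h2⟩ := (key v hv iv _ h).2 e
    obtain ⟨-, h4⟩ := (key w hw iw _ h).2 e
    exact hne (h2.symm.trans h4)

/-- conjugation of `a w` by an element of `X` -/
theorem conj_a (F : Fam t K X a) {v w : G} (hv : v ∈ X) (hw : w ∈ X) : v * a w * v = a (v * w * v) := by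
  have := F.eqv v (F.XK v hv) w hw
  rwa [F.inv hv] at this

theorem mem_conj (F : Fam t K X a) {v w : G} (hv : v ∈ X) (hw : w ∈ X) : v * w * v ∈ X := by
  have := F.Xc v (F.XK v hv) w hw
  rwa [F.inv hv] at this

/-- if `a (v x) = a v * a x`, then `a v` and `a x` commute -/
theorem comm_of_add (F : Fam t K X a) {v x : G} (hv : v ∈ X) (hx : x ∈ X) (hvx : v * x ∈ X)
    (h : a (v * x) = a v * a x) : a v * a x = a x * a v := by
  have h1 := F.ainv hvx
  rw [h, mul_inv_rev, F.ainv hv, F.ainv hx] at h1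
  exact h1.symm

/-- the commutator of `a v` and `b w` -/
def f (a : G → G) (v w : G) : G := a v * (a w * w) * (a v * (a w * w))

theorem good_iff (F : Fam t K X a) {v w : G} (hv : v ∈ X) (hw : w ∈ X) :
    Good a v w ↔ f a v w = 1 := by
  unfold Good f
  have h1 := F.aa v hv
  have h2 := F.bb hw
  set b := a w * w with hb
  constructor
  · intro h
    calc a v * b * (a v * b) = a v * (b * a v) * b := by group
      _ = a v * (a v * b) * b := by rw [h]
      _ = (a v * a v) * (b * b) := by group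
      _ = 1 := by rw [h1, h2, one_mul]
  · intro h
    calc a v * b = (a v * b * (a v * b)) * (b * b)⁻¹ * b * (a v * a v)⁻¹ * a v := by group
      _ = b * a v := by rw [h, h1, h2]; group

/-- **the dichotomy**, order 4 -/
theorem dich (F : Fam t K X a) (hcent : ∀ g : G, g * t = t * g → g ∈ K ∨ t * g ∈ K)
    {v w x : G} (hv : v ∈ X) (hw : w ∈ X) (hx : x ∈ X) (hne : v ≠ w) (h : v * w * v = w * x)
    (h' : w * v * w = v * x) (hav : a (v * x) = a v * a x) (haw : a (w * x) = a w * a x) :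
    f a v w ∈ K ∧ f a v w * f a v w = 1 ∧ f a v w * v = v * f a v w ∧ f a v w * w = w * f a v w ∧
      ∀ c ∈ K, c * v = v * c → c * w = w * c → c * f a v w = f a v w * c := by
  have hvx : v * x ∈ X := h' ▸ F.mem_conj hw hv
  have hwx : w * x ∈ X := h ▸ F.mem_conj hv hw
  have cv := F.comm_of_add hv hx hvx hav
  have cw := F.comm_of_add hw hx hwx haw
  have avv := F.aa v hv
  have aww := F.aa w hw
  have axx := F.aa x hx
  have vv := F.X2 v hv
  have ww := F.X2 w hw
  -- `f = (a v a w)² a x`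
  have e1 : f a v w = a v * a w * (a v * a w) * a x := by
    have h1 : w * a v * w = a v * a x := by rw [F.conj_a hw hv, h', hav]
    have h2 := F.va hw
    calc f a v w = a v * a w * (w * a v * (a w * w)) := by unfold f; group
      _ = a v * a w * (w * a v * (w * a w)) := by rw [h2]
      _ = a v * a w * ((w * a v * w) * a w) := by group
      _ = a v * a w * (a v * (a x * a w)) := by rw [h1]; group
      _ = a v * a w * (a v * (a w * a x)) := by rw [cw]
      _ = a v * a w * (a v * a w) * a x := by group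
  have e2 : t * f a v w * t = a v * a w * (a v * a w) * a x := by
    have h1 : v * a w * v = a w * a x := by rw [F.conj_a hv hw, h, haw]
    have h2 := F.va hv
    have h3 : t * (a w * w) * t = a w := by
      have := F.t_b hw
      rwa [F.tinv] at this
    have h4 : t * a v * t = a v * v := (F.b_eq hv).symm
    have htt := F.tt
    calc t * f a v w * t = t * a v * 1 * (a w * w) * 1 * a v * 1 * (a w * w) * t := by unfold f; group
      _ = t * a v * (t * t) * (a w * w) * (t * t) * a v * (t * t) * (a w * w) * t := by rw [htt]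
      _ = (t * a v * t) * (t * (a w * w) * t) * (t * a v * t) * (t * (a w * w) * t) := by group
      _ = a v * v * a w * (a v * v) * a w := by rw [h3, h4]
      _ = a v * (v * a w) * (v * a v) * a w := by rw [h2]; group
      _ = a v * (v * a w * v) * a v * a w := by group
      _ = a v * a w * (a x * a v) * a w := by rw [h1]; group
      _ = a v * a w * a v * (a x * a w) := by rw [← cv]; group
      _ = a v * a w * (a v * a w) * a x := by rw [← cw]; group
  have hft : f a v w * t = t * f a v w := by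
    have h1 : t * f a v w * t = f a v w := by rw [e2, e1]
    calc f a v w * t = (t * t) * (f a v w * t) := by rw [F.tt, one_mul]
      _ = t * (t * f a v w * t) := by group
      _ = t * f a v w := by rw [h1]
  have hinv : (f a v w)⁻¹ = a w * a v * (a w * a v) * a x := by
    rw [e1, mul_inv_rev, mul_inv_rev, mul_inv_rev, F.ainv hv, F.ainv hw, F.ainv hx]
    calc a x * (a w * a v * (a w * a v)) = (a x * a w) * a v * (a w * a v) := by group
      _ = a w * (a x * a v) * (a w * a v) := by rw [← cw]; group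
      _ = a w * a v * (a x * a w) * a v := by rw [← cv]; group
      _ = a w * a v * a w * (a x * a v) := by rw [← cw]; group
      _ = a w * a v * (a w * a v) * a x := by rw [← cv]; group
  have iv : a v * f a v w * a v = (f a v w)⁻¹ := by
    rw [hinv, e1]
    calc a v * (a v * a w * (a v * a w) * a x) * a v = (a v * a v) * a w * (a v * a w) * (a x * a v) := by
          group
      _ = a w * (a v * a w) * (a v * a x) := by rw [avv, one_mul, ← cv]
      _ = a w * a v * (a w * a v) * a x := by group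
  have iw : a w * f a v w * a w = (f a v w)⁻¹ := by
    rw [hinv, e1]
    calc a w * (a v * a w * (a v * a w) * a x) * a w = a w * a v * a w * a v * (a w * (a x * a w)) := by
          group
      _ = a w * a v * a w * a v * (a w * a w) * a x := by rw [← cw]; group
      _ = a w * a v * (a w * a v) * a x := by rw [aww, mul_one]; group
  obtain ⟨r1, r2, r3, r4⟩ := F.dich_core hcent hv hw hne hft iv iw
  refine ⟨r1, r2, r3, r4, fun c hc hcv hcw => ?_⟩
  have c1 : Commute c (a v) := F.comm hc hv hcv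
  have c2 : Commute c (a w) := F.comm hc hw hcw
  have c3 : Commute c w := hcw
  exact (c1.mul_right (c2.mul_right c3)).mul_right (c1.mul_right (c2.mul_right c3))

/-- **the dichotomy**, commuting pairs -/
theorem dich' (F : Fam t K X a) (hcent : ∀ g : G, g * t = t * g → g ∈ K ∨ t * g ∈ K)
    {v w : G} (hv : v ∈ X) (hw : w ∈ X) (hne : v ≠ w) (h : v * w = w * v) :
    f a v w ∈ K ∧ f a v w * f a v w = 1 ∧ f a v w * v = v * f a v w ∧ f a v w * w = w * f a v w ∧
      ∀ c ∈ K, c * v = v * c → c * w = w * c → c * f a v w = f a v w * c := by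
  have avv := F.aa v hv
  have aww := F.aa w hw
  have vv := F.X2 v hv
  have ww := F.X2 w hw
  have hwa : w * a v = a v * w := F.comm (F.XK w hw) hv h.symm
  have hva : v * a w = a w * v := F.comm (F.XK v hv) hw h
  have hwaw := F.va hw
  have hvav := F.va hv
  have e1 : f a v w = a v * a w * (a v * a w) := by
    calc f a v w = a v * a w * (w * a v) * (a w * w) := by unfold f; group
      _ = a v * a w * (a v * w) * (w * a w) := by rw [hwa, hwaw]
      _ = a v * a w * a v * (w * w) * a w := by group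
      _ = _ := by rw [ww]; group
  have e2 : t * f a v w * t = a v * a w * (a v * a w) := by
    have h3 : t * (a w * w) * t = a w := by
      have := F.t_b hw
      rwa [F.tinv] at this
    have h4 : t * a v * t = a v * v := (F.b_eq hv).symm
    have htt := F.tt
    calc t * f a v w * t = t * a v * 1 * (a w * w) * 1 * a v * 1 * (a w * w) * t := by unfold f; group
      _ = t * a v * (t * t) * (a w * w) * (t * t) * a v * (t * t) * (a w * w) * t := by rw [htt]
      _ = (t * a v * t) * (t * (a w * w) * t) * (t * a v * t) * (t * (a w * w) * t) := by group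
      _ = a v * v * a w * (a v * v) * a w := by rw [h3, h4]
      _ = a v * (v * a w) * (v * a v) * a w := by rw [hvav]; group
      _ = a v * (a w * v) * (v * a v) * a w := by rw [hva]
      _ = a v * a w * (v * v) * a v * a w := by group
      _ = _ := by rw [vv]; group
  have hft : f a v w * t = t * f a v w := by
    have h1 : t * f a v w * t = f a v w := by rw [e2, e1]
    calc f a v w * t = (t * t) * (f a v w * t) := by rw [F.tt, one_mul]
      _ = t * (t * f a v w * t) := by group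
      _ = t * f a v w := by rw [h1]
  have hinv : (f a v w)⁻¹ = a w * a v * (a w * a v) := by
    rw [e1, mul_inv_rev, mul_inv_rev, F.ainv hv, F.ainv hw]
  have iv : a v * f a v w * a v = (f a v w)⁻¹ := by
    rw [hinv, e1]
    calc a v * (a v * a w * (a v * a w)) * a v = (a v * a v) * a w * (a v * a w) * a v := by group
      _ = a w * a v * (a w * a v) := by rw [avv]; group
  have iw : a w * f a v w * a w = (f a v w)⁻¹ := by
    rw [hinv, e1]
    calc a w * (a v * a w * (a v * a w)) * a w = a w * a v * a w * a v * (a w * a w) := by group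
      _ = a w * a v * (a w * a v) := by rw [aww]; group
  obtain ⟨r1, r2, r3, r4⟩ := F.dich_core hcent hv hw hne hft iv iw
  refine ⟨r1, r2, r3, r4, fun c hc hcv hcw => ?_⟩
  have c1 : Commute c (a v) := F.comm hc hv hcv
  have c2 : Commute c (a w) := F.comm hc hw hcw
  have c3 : Commute c w := hcw
  exact (c1.mul_right (c2.mul_right c3)).mul_right (c1.mul_right (c2.mul_right c3))

/-- the trick of #10297: `w = w₁ w₂`, `a` multiplicative: `f(v,w) = f(v,w₁) f(v,w₂) ^ (b w₁)` -/
theorem f_mul (F : Fam t K X a) {v w w₁ w₂ : G} (hv : v ∈ X) (hwX : w ∈ X) (h₁ : w₁ ∈ X) (h₂ : w₂ ∈ X)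
    (hw : w = w₁ * w₂) (h12 : w₁ * w₂ = w₂ * w₁) (ha : a w = a w₁ * a w₂) :
    f a v w = f a v w₁ * ((a w₁ * w₁) * f a v w₂ * (a w₁ * w₁)) := by
  have h3 : w₁ * a w₂ = a w₂ * w₁ := F.comm (F.XK _ h₁) h₂ h12
  have h4 : a w * w = a w₁ * w₁ * (a w₂ * w₂) := by
    rw [ha, hw]
    calc a w₁ * a w₂ * (w₁ * w₂) = a w₁ * (a w₂ * w₁) * w₂ := by group
      _ = a w₁ * (w₁ * a w₂) * w₂ := by rw [h3]
      _ = _ := by group
  have b1 := F.bb h₁
  have b2 := F.bb h₂
  have bw := F.bb hwX
  unfold f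
  rw [h4] at bw ⊢
  have avv := F.aa v hv
  set p := a w₁ * w₁ with hp
  set q := a w₂ * w₂ with hq
  have c : p * q = q * p := by
    calc p * q = (p * q)⁻¹ := (inv_eq_of_mul_eq_one_left bw).symm
      _ = q⁻¹ * p⁻¹ := mul_inv_rev _ _
      _ = q * p := by rw [inv_eq_of_mul_eq_one_left b1, inv_eq_of_mul_eq_one_left b2]
  calc a v * (p * q) * (a v * (p * q)) = a v * (p * q) * (a v * (q * p)) := by
        rw [show a v * (p * q) * (a v * (p * q)) = a v * (p * q) * (a v * (q * p)) by rw [← c]]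
    _ = a v * p * 1 * q * (a v * (q * p)) := by group
    _ = a v * p * (a v * a v) * q * (a v * (q * p)) := by rw [avv]
    _ = a v * p * (a v * 1 * a v) * q * (a v * (q * p)) := by rw [mul_one]
    _ = a v * p * (a v * (p * p) * a v) * q * (a v * (q * p)) := by rw [b1]
    _ = a v * p * (a v * p) * (p * (a v * q * (a v * q)) * p) := by group

/-- the trick: if `f(v,w)`, `f(v,w₁)`, `f(v,w₂)` lie in `K`, then `f(v,w₂)` commutes with `w₁` -/
theorem f_trick (F : Fam t K X a) {v w w₁ w₂ : G} (hv : v ∈ X) (hwX : w ∈ X) (h₁ : w₁ ∈ X)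
    (h₂ : w₂ ∈ X) (hw : w = w₁ * w₂) (h12 : w₁ * w₂ = w₂ * w₁) (ha : a w = a w₁ * a w₂)
    (k : f a v w ∈ K) (k₁ : f a v w₁ ∈ K) (k₂ : f a v w₂ ∈ K) :
    f a v w₂ * w₁ = w₁ * f a v w₂ := by
  have h := F.f_mul hv hwX h₁ h₂ hw h12 ha
  have h5 : (a w₁ * w₁) * f a v w₂ * (a w₁ * w₁) ∈ K := by
    have h6 : (a w₁ * w₁) * f a v w₂ * (a w₁ * w₁) = (f a v w₁)⁻¹ * f a v w := by rw [h]; group
    rw [h6]; exact mul_mem (inv_mem k₁) k
  -- conjugate by `w₁ ∈ K`
  have h7 : w₁ * f a v w₂ * w₁⁻¹ ∈ K :=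
    mul_mem (mul_mem (F.XK _ h₁) k₂) (inv_mem (F.XK _ h₁))
  have h8 : a w₁ * (w₁ * f a v w₂ * w₁⁻¹) * a w₁ ∈ K := by
    have e : a w₁ * (w₁ * f a v w₂ * w₁⁻¹) * a w₁ = (a w₁ * w₁) * f a v w₂ * (a w₁ * w₁) := by
      rw [F.inv h₁]
      calc a w₁ * (w₁ * f a v w₂ * w₁) * a w₁ = a w₁ * w₁ * f a v w₂ * (w₁ * a w₁) := by group
        _ = _ := by rw [F.va h₁]
    rw [e]; exact h5
  have h9 := F.trick h₁ h7 (F.Kt _ h8)
  have h10 : w₁ * f a v w₂ = w₁ * (f a v w₂ * w₁⁻¹ * w₁) := by group
  calc f a v w₂ * w₁ = w₁⁻¹ * (w₁ * f a v w₂ * w₁⁻¹ * w₁) * w₁ := by group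
    _ = w₁⁻¹ * (w₁ * (w₁ * f a v w₂ * w₁⁻¹)) * w₁ := by rw [h9]
    _ = w₁ * f a v w₂ := by group

end Fam

end Cfsg.Agent.OddHalf.Fam
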