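import Cfsg.Agent.OddHalf.Fam.Basic

/-!
# ODD half, D8: the wreath end of an equivariant family (helper681)

If `C_G(t) = ⟨t⟩ × K`, `K = ⟨X⟩`, `Z(K) = 1`, `K` not abelian and all pairs of the family are good, then
`K₁ = ⟨a v⟩` and `K₂ = K₁ ^ t` commute, `S = K₁K₂⟨t⟩ ≥ C_G(t)`, all conjugates of `t` in `S - K₁K₂` are
`S`-conjugate to `t`, so `G` has a subgroup of index 2.
-/

set_option autoImplicit false
set_option linter.dupNamespace false

namespace Cfsg.Agent.OddHalf.Fam

open Subgroup

variable {G : Type*} [Group G]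

namespace Fam

variable {t : G} {K : Subgroup G} {X : Set G} {a : G → G}

/-- `K₁` -/
def K1 (X : Set G) (a : G → G) : Subgroup G := closure (a '' X)

/-- `K₂ = K₁ ^ t` -/
def K2 (X : Set G) (a : G → G) : Subgroup G := closure ((fun v => a v * v) '' X)

theorem t_K1 (F : Fam t K X a) {y : G} (hy : y ∈ K1 X a) : t * y * t⁻¹ ∈ K2 X a := by
  have h : K1 X a ≤ (K2 X a).comap (MulAut.conj t).toMonoidHom := by
    unfold K1
    rw [closure_le]
    rintro _ ⟨v, hv, rfl⟩
    show t * a v * t⁻¹ ∈ K2 X a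
    rw [F.t_a hv]
    exact subset_closure ⟨v, hv, rfl⟩
  exact h hy

theorem t_K2 (F : Fam t K X a) {y : G} (hy : y ∈ K2 X a) : t * y * t⁻¹ ∈ K1 X a := by
  have h : K2 X a ≤ (K1 X a).comap (MulAut.conj t).toMonoidHom := by
    unfold K2
    rw [closure_le]
    rintro _ ⟨v, hv, rfl⟩
    show t * (a v * v) * t⁻¹ ∈ K1 X a
    rw [F.t_b hv]
    exact subset_closure ⟨v, hv, rfl⟩
  exact h hy

theorem comm12 (hgood : ∀ v ∈ X, ∀ w ∈ X, Good a v w) {y z : G} (hy : y ∈ K1 X a) (hz : z ∈ K2 X a) :
    y * z = z * y := by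
  have h1 : ∀ w ∈ X, K1 X a ≤ centralizer ({a w * w} : Set G) := by
    intro w hw
    unfold K1
    rw [closure_le]
    rintro _ ⟨v, hv, rfl⟩
    exact mem_centralizer_singleton_iff.2 (hgood v hv w hw)
  have h2 : K2 X a ≤ centralizer ({y} : Set G) := by
    unfold K2
    rw [closure_le]
    rintro _ ⟨w, hw, rfl⟩
    exact mem_centralizer_singleton_iff.2 (mem_centralizer_singleton_iff.1 (h1 w hw hy)).symm
  exact (mem_centralizer_singleton_iff.1 (h2 hz)).symm

/-- `N = K₁K₂` -/
def N (X : Set G) (a : G → G) : Subgroup G := K1 X a ⊔ K2 X a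

theorem mem_N (hgood : ∀ v ∈ X, ∀ w ∈ X, Good a v w) {y : G} :
    y ∈ N X a ↔ ∃ p ∈ K1 X a, ∃ q ∈ K2 X a, y = p * q := by
  constructor
  · intro hy
    let M : Subgroup G :=
      { carrier := {y | ∃ p ∈ K1 X a, ∃ q ∈ K2 X a, y = p * q}
        one_mem' := ⟨1, one_mem _, 1, one_mem _, by group⟩
        mul_mem' := by
          rintro _ _ ⟨p, hp, q, hq, rfl⟩ ⟨p', hp', q', hq', rfl⟩
          refine ⟨p * p', mul_mem hp hp', q * q', mul_mem hq hq', ?_⟩
          calc p * q * (p' * q') = p * (q * p') * q' := by group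
            _ = p * (p' * q) * q' := by rw [comm12 hgood hp' hq]
            _ = p * p' * (q * q') := by group
        inv_mem' := by
          rintro _ ⟨p, hp, q, hq, rfl⟩
          refine ⟨p⁻¹, inv_mem hp, q⁻¹, inv_mem hq, ?_⟩
          rw [mul_inv_rev, comm12 hgood (inv_mem hp) (inv_mem hq)] }
    have h : N X a ≤ M := by
      unfold N
      rw [sup_le_iff]
      exact ⟨fun p hp => ⟨p, hp, 1, one_mem _, by group⟩, fun q hq => ⟨1, one_mem _, q, hq, by group⟩⟩
    exact h hy
  · rintro ⟨p, hp, q, hq, rfl⟩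
    exact mul_mem (mem_sup_left hp) (mem_sup_right hq)

theorem t_N (F : Fam t K X a) (hgood : ∀ v ∈ X, ∀ w ∈ X, Good a v w) {y : G} (hy : y ∈ N X a) :
    t * y * t⁻¹ ∈ N X a := by
  obtain ⟨p, hp, q, hq, rfl⟩ := (mem_N hgood).1 hy
  have e : t * (p * q) * t⁻¹ = (t * p * t⁻¹) * (t * q * t⁻¹) := by group
  rw [e]
  exact mul_mem (mem_sup_right (F.t_K1 hp)) (mem_sup_left (F.t_K2 hq))

/-- **the wreath end** -/
theorem wreath [Finite G] (F : Fam t K X a) (hG : ∀ H : Subgroup G, H.index ≠ 2)
    (hcent : ∀ g : G, g * t = t * g → g ∈ K ∨ t * g ∈ K)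
    (hgen : K ≤ closure X) (hcen : ∀ g ∈ K, (∀ k ∈ K, k * g = g * k) → g = 1)
    (hna : ∃ v ∈ K, ∃ w ∈ K, v * w ≠ w * v)
    (hgood : ∀ v ∈ X, ∀ w ∈ X, Good a v w) : False := by
  have htt := F.tt
  have hti := F.tinv
  -- `K ≤ N`
  have hXN : ∀ v ∈ X, v ∈ N X a := by
    intro v hv
    rw [mem_N hgood]
    exact ⟨a v, subset_closure ⟨v, hv, rfl⟩, a v * v, subset_closure ⟨v, hv, rfl⟩, (F.a_b hv).symm⟩
  have hKN : K ≤ N X a := hgen.trans ((closure_le _).2 hXN)
  -- elements of `N` normalise `K₁` and `K₂`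
  have hn1 : ∀ y ∈ N X a, ∀ p ∈ K1 X a, y * p * y⁻¹ ∈ K1 X a := by
    intro y hy p hp
    obtain ⟨p', hp', q, hq, rfl⟩ := (mem_N hgood).1 hy
    have e : p' * q * p * (p' * q)⁻¹ = p' * p * p'⁻¹ := by
      calc p' * q * p * (p' * q)⁻¹ = p' * (q * p) * q⁻¹ * p'⁻¹ := by group
        _ = p' * (p * q) * q⁻¹ * p'⁻¹ := by rw [comm12 hgood hp hq]
        _ = _ := by group
    rw [e]
    exact mul_mem (mul_mem hp' hp) (inv_mem hp')
  -- `t ∉ N`
  have htN : t ∉ N X a := by
    intro ht
    obtain ⟨v, hv, w, hw, hvw⟩ := hna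
    -- `K₁ = K₂` is abelian
    have h12 : K1 X a ≤ K2 X a := by
      intro p hp
      have h1 := hn1 t ht p hp
      have h2 := F.t_K1 h1
      have e : t * (t * p * t⁻¹) * t⁻¹ = p := by
        rw [hti]
        calc t * (t * p * t) * t = (t * t) * p * (t * t) := by group
          _ = p := by rw [htt]; group
      rwa [e] at h2
    have h21 : K2 X a ≤ K1 X a := by
      intro q hq
      have h1 := F.t_K2 hq
      have h2 := hn1 t ht _ h1
      have e : t * (t * q * t⁻¹) * t⁻¹ = q := by
        rw [hti]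
        calc t * (t * q * t) * t = (t * t) * q * (t * t) := by group
          _ = q := by rw [htt]; group
      rwa [e] at h2
    have hNK : N X a ≤ K1 X a := by
      unfold N; rw [sup_le_iff]; exact ⟨le_refl _, h21⟩
    exact hvw (comm12 hgood (hNK (hKN hv)) (h12 (hNK (hKN hw))))
  -- `S = N⟨t⟩`
  let S : Subgroup G :=
    { carrier := {y | y ∈ N X a ∨ t * y ∈ N X a}
      one_mem' := Or.inl (one_mem _)
      mul_mem' := by
        rintro x y (hx | hx) (hy | hy)
        · exact Or.inl (mul_mem hx hy)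
        · right
          have h1 := F.t_N hgood hx
          have e : t * (x * y) = t * x * t⁻¹ * (t * y) := by group
          rw [e]; exact mul_mem h1 hy
        · right
          have e : t * (x * y) = t * x * y := by group
          rw [e]; exact mul_mem hx hy
        · left
          have h1 := F.t_N hgood hx
          have e : x * y = t * (t * x) * t⁻¹ * (t * y) := by
            rw [hti]
            calc x * y = (t * t) * x * (t * t) * y := by rw [htt]; group
              _ = _ := by group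
          rw [e]; exact mul_mem h1 hy
      inv_mem' := by
        rintro x (hx | hx)
        · exact Or.inl (inv_mem hx)
        · right
          have h1 := F.t_N hgood (inv_mem hx)
          have e : t * x⁻¹ = t * (t * x)⁻¹ * t⁻¹ := by
            rw [mul_inv_rev, hti]
            calc t * x⁻¹ = t * x⁻¹ * (t * t) := by rw [htt, mul_one]
              _ = _ := by group
          rw [e]; exact h1 }
  have hS : ∀ y, y ∈ S ↔ y ∈ N X a ∨ t * y ∈ N X a := fun _ => Iff.rfl
  have hNS : N X a ≤ S := fun y hy => Or.inl hy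
  have htS : t ∈ S := Or.inr (by rw [htt]; exact one_mem _)
  have hCS : centralizer ({t} : Set G) ≤ S := by
    intro g hg
    rw [mem_centralizer_singleton_iff] at hg
    rcases hcent g hg with h | h
    · exact Or.inl (hKN h)
    · exact Or.inr (hKN h)
  have hrel : (N X a).relIndex S = 2 := by
    rw [relIndex, index_eq_two_iff]
    refine ⟨⟨t, htS⟩, fun y => ?_⟩
    rw [mem_subgroupOf, mem_subgroupOf]
    have hy := y.2
    rw [hS] at hy
    have h1 : (y : G) * t ∈ N X a ↔ t * (y : G) ∈ N X a := by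
      constructor
      · intro h
        have := F.t_N hgood h
        have e : t * ((y : G) * t) * t⁻¹ = t * y := by group
        rwa [e] at this
      · intro h
        have := F.t_N hgood h
        have e : t * (t * (y : G)) * t⁻¹ = y * t := by
          rw [hti]
          calc t * (t * (y : G)) * t = (t * t) * y * t := by group
            _ = y * t := by rw [htt, one_mul]
        rwa [e] at this
    show Xor ((y : G) * t ∈ N X a) ((y : G) ∈ N X a)
    rw [h1]
    rcases hy with hy | hy
    · right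
      refine ⟨hy, fun h => htN ?_⟩
      have := mul_mem h (inv_mem hy)
      have e : t * (y : G) * (y : G)⁻¹ = t := by group
      rwa [e] at this
    · left
      refine ⟨hy, fun h => htN ?_⟩
      have := mul_mem hy (inv_mem h)
      have e : t * (y : G) * (y : G)⁻¹ = t := by group
      rwa [e] at this
  have hodd : Odd (S.relIndex (centralizer ({t} : Set G))) := by
    rw [relIndex_eq_one.2 hCS]; exact odd_one
  -- homomorphisms to `±1` are trivial
  have hhom : ∀ f : G →* ℤˣ, f t = 1 := by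
    intro f
    by_contra hne
    have hk : f.ker.index = 2 := by
      have h1 : Nat.card (G ⧸ f.ker) = Nat.card f.range :=
        Nat.card_congr (QuotientGroup.quotientKerEquivRange f).toEquiv
      have h2 : f.range = ⊤ := by
        rw [eq_top_iff]
        intro u _
        rcases Int.units_eq_one_or u with rfl | rfl
        · exact one_mem _
        · refine ⟨t, ?_⟩
          rcases Int.units_eq_one_or (f t) with h | h
          · exact absurd h hne
          · exact h
      show Nat.card (G ⧸ f.ker) = 2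
      rw [h1, h2]
      have : Nat.card (⊤ : Subgroup ℤˣ) = Nat.card ℤˣ := Nat.card_congr Subgroup.topEquiv.toEquiv
      rw [this, Nat.card_eq_fintype_card]
      rfl
    exact hG _ hk
  obtain ⟨g, hgS, hgN, -, hg⟩ := GTwoFour.TransferTL.exists_extremal_two S (N X a) hrel t hhom htt htS htN hodd
  -- `g⁻¹ t g = t p q'...`
  set τ := g⁻¹ * t * g with hτ
  have hττ : τ * τ = 1 := by
    rw [hτ]
    calc g⁻¹ * t * g * (g⁻¹ * t * g) = g⁻¹ * (t * t) * g := by group
      _ = 1 := by rw [htt]; group
  have htτ : t * τ ∈ N X a := by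
    rcases hgS with h | h
    · exact absurd h hgN
    · exact h
  obtain ⟨p, hp, q, hq, hpq⟩ := (mem_N hgood).1 htτ
  -- `q = t l t`, `l ∈ K₁`
  set l := t * q * t⁻¹ with hl
  have hlK : l ∈ K1 X a := F.t_K2 hq
  have hql : q = t * l * t := by
    rw [hl, hti]
    calc q = (t * t) * q * (t * t) := by rw [htt]; group
      _ = _ := by group
  have hτ1 : τ = t * p * t * l * t := by
    calc τ = (t * t) * τ := by rw [htt, one_mul]
      _ = t * (t * τ) := by group
      _ = t * (p * (t * l * t)) := by rw [hpq, hql]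
      _ = _ := by group
  -- `p' = t p t ∈ K₂`
  have hp'K : t * p * t ∈ K2 X a := by
    have := F.t_K1 hp
    rwa [hti] at this
  have hτ2 : τ = l * (t * p * t) * t := by
    rw [hτ1, comm12 hgood hlK hp'K]
  -- `ζ = l p`
  have hl'K : t * l * t ∈ K2 X a := by
    have := F.t_K1 hlK
    rwa [hti] at this
  have hζ : (l * p) * (t * (p * l) * t) = 1 := by
    have h1 : τ * τ = l * (t * p * t) * (t * l * t) * p := by
      rw [hτ2]
      calc l * (t * p * t) * t * (l * (t * p * t) * t) = l * (t * p * t) * (t * l * t) * p * (t * t) := by group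
        _ = _ := by rw [htt, mul_one]
    rw [hττ] at h1
    have h2 : (t * p * t) * (t * l * t) ∈ K2 X a := mul_mem hp'K hl'K
    have h3 : (t * p * t) * (t * l * t) = t * (p * l) * t := by
      calc (t * p * t) * (t * l * t) = t * p * (t * t) * l * t := by group
        _ = _ := by rw [htt]; group
    have h4 : p * ((t * p * t) * (t * l * t)) = (t * p * t) * (t * l * t) * p := comm12 hgood hp h2
    rw [← h3]
    calc l * p * (t * p * t * (t * l * t)) = l * (p * ((t * p * t) * (t * l * t))) := by group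
      _ = l * ((t * p * t) * (t * l * t) * p) := by rw [h4]
      _ = l * (t * p * t) * (t * l * t) * p := by group
      _ = 1 := h1.symm
  set ζ := l * p with hζd
  have hζ1 : ζ ∈ K1 X a := mul_mem hlK hp
  have hplt : t * (p * l) * t = ζ⁻¹ := (inv_eq_of_mul_eq_one_right hζ).symm
  have hζ2 : ζ ∈ K2 X a := by
    have h1 := F.t_K1 (mul_mem hp hlK)
    rw [hti, hplt] at h1
    exact inv_mem_iff.1 h1
  -- `ζ` is central in `N`
  have hζN : ∀ y ∈ N X a, y * ζ = ζ * y := by
    intro y hy
    obtain ⟨y1, hy1, y2, hy2, rfl⟩ := (mem_N hgood).1 hy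
    calc y1 * y2 * ζ = y1 * (y2 * ζ) := by group
      _ = y1 * (ζ * y2) := by rw [comm12 hgood hζ1 hy2]
      _ = (y1 * ζ) * y2 := by group
      _ = ζ * y1 * y2 := by rw [comm12 hgood hy1 hζ2]
      _ = _ := by group
  -- `p l = ζ` as well
  have hpl : p * l = ζ := by
    have h1 : l * (p * l) = l * ζ := by
      rw [hζN l (mem_sup_left hlK), hζd]; group
    exact mul_left_cancel h1
  have hζt : t * ζ * t = ζ⁻¹ := by rw [← hpl]; rw [hpl, ← hplt, hpl]
  -- the elements of `Z = C_N(N)` fixed by `t` are trivial, so `ζ` has odd order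
  have hfix : ∀ y ∈ N X a, (∀ x ∈ N X a, x * y = y * x) → y * t = t * y → y = 1 := by
    intro y hy hyc hyt
    rcases hcent y hyt with h | h
    · exact hcen y h fun k hk => hyc k (hKN hk)
    · exfalso
      apply htN
      have h1 := mul_mem (hKN h) (inv_mem hy)
      have e : t * y * y⁻¹ = t := by group
      rwa [e] at h1
  have hζNm : ζ ∈ N X a := mem_sup_left hζ1
  have hord : Odd (orderOf ζ) := by
    by_contra hne
    rw [Nat.not_odd_iff_even] at hne
    obtain ⟨m, hm⟩ := hne
    have hpos : 0 < orderOf ζ := orderOf_pos ζ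
    have hy : ζ ^ m ≠ 1 := by
      intro h
      have := orderOf_dvd_of_pow_eq_one h
      have := Nat.le_of_dvd (by omega) this
      omega
    apply hy
    apply hfix _ (pow_mem hζNm m)
    · intro x hx
      exact ((show Commute x ζ from hζN x hx).pow_right m).eq
    · have h1 : t * ζ ^ m * t⁻¹ = (ζ ^ m)⁻¹ := by
        rw [← conj_pow, hti, hζt, inv_pow]
      have h2 : ζ ^ m * ζ ^ m = 1 := by
        rw [← pow_add, ← hm, pow_orderOf_eq_one]
      have h3 : (ζ ^ m)⁻¹ = ζ ^ m := inv_eq_of_mul_eq_one_left h2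
      rw [h3, mul_inv_eq_iff_eq_mul] at h1
      exact h1.symm
  -- a square root of `ζ⁻¹`... `η² = ζ`
  obtain ⟨m, hm⟩ := hord
  set η := ζ ^ (m + 1) with hη
  have hηη : η * η = ζ := by
    rw [hη, ← pow_add]
    have e : m + 1 + (m + 1) = orderOf ζ + 1 := by omega
    rw [e, pow_succ, pow_orderOf_eq_one, one_mul]
  have hηN : η ∈ N X a := pow_mem hζNm _
  have hηt : t * η * t⁻¹ = η⁻¹ := by rw [hη, ← conj_pow, hti, hζt, inv_pow]
  -- `τ = l t l⁻¹ ζ = x⁻¹ t x`
  apply hg (η * l⁻¹)
  · exact hNS (mul_mem hηN (inv_mem (mem_sup_left hlK)))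
  · have hp2 : p = l⁻¹ * ζ := by rw [hζd]; group
    have h1 : τ = l * (t * l⁻¹) * ζ := by
      calc τ = l * (t * p * t) * t := hτ2
        _ = l * t * p * (t * t) := by group
        _ = l * t * (l⁻¹ * ζ) := by rw [htt, mul_one, ← hp2]
        _ = _ := by group
    have h2 : η⁻¹ * t * η = t * ζ := by
      have h4 : η⁻¹ * t = t * η := by rw [← hηt]; group
      rw [h4, mul_assoc, hηη]
    have h3 : l⁻¹ * ζ = ζ * l⁻¹ := hζN _ (inv_mem (mem_sup_left hlK))
    rw [h1]
    calc l * (t * l⁻¹) * ζ = l * t * (l⁻¹ * ζ) := by group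
      _ = l * (t * ζ) * l⁻¹ := by rw [h3]; group
      _ = l * (η⁻¹ * t * η) * l⁻¹ := by rw [h2]
      _ = (η * l⁻¹)⁻¹ * t * (η * l⁻¹) := by group

end Fam

end Cfsg.Agent.OddHalf.Fam
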